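import Mathlib
import Cfsg.Agent.H614.Spin.Basic
import Cfsg.Agent.H87.Spin.Wt

/-!
# S4578, task G: the degree formula (helper87)
-/

set_option autoImplicit false

namespace Cfsg.Agent.H614.Spin

open Finset

/-- the product of the factorials -/
def fden (L : List ℤ) : ℚ := (L.map fun a => ((a.toNat.factorial : ℕ) : ℚ)).prod

theorem ratio_append_cons (L₁ : List ℤ) (a : ℤ) (L₂ : List ℤ) :
    ratio (L₁ ++ a :: L₂) = (L₁.map fun b => ((b - a : ℤ) : ℚ) / ((b + a : ℤ) : ℚ)).prod *
      (L₂.map fun b => ((a - b : ℤ) : ℚ) / ((a + b : ℤ) : ℚ)).prod * ratio (L₁ ++ L₂) := by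
  induction L₁ with
  | nil => simp [ratio]
  | cons c L₁ ih =>
    rw [List.cons_append, ratio, ih, List.cons_append, ratio, List.map_append, List.prod_append, List.map_cons,
      List.prod_cons, List.map_cons, List.prod_cons, List.map_append, List.prod_append]
    ring

theorem fden_append_cons (L₁ : List ℤ) (a : ℤ) (L₂ : List ℤ) :
    fden (L₁ ++ a :: L₂) = ((a.toNat.factorial : ℕ) : ℚ) * fden (L₁ ++ L₂) := by
  unfold fden
  rw [List.map_append, List.prod_append, List.map_cons, List.prod_cons, List.map_append, List.prod_append]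
  ring

theorem fden_ne (L : List ℤ) : fden L ≠ 0 := by
  unfold fden
  apply List.prod_ne_zero
  intro h
  obtain ⟨a, _, ha⟩ := List.mem_map.1 h
  exact (Nat.cast_ne_zero.2 (Nat.factorial_ne_zero _)) ha

theorem fden_pos (L : List ℤ) : 0 < fden L := by
  unfold fden
  apply List.prod_pos
  intro x hx
  obtain ⟨a, _, rfl⟩ := List.mem_map.1 hx
  exact Nat.cast_pos.2 (Nat.factorial_pos _)

theorem fden_pred (L₁ : List ℤ) {a : ℤ} (ha : 0 < a) (L₂ : List ℤ) :
    fden (L₁ ++ a :: L₂) = a * fden (L₁ ++ (a - 1) :: L₂) := by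
  rw [fden_append_cons, fden_append_cons]
  obtain ⟨k, rfl⟩ : ∃ k : ℕ, a = (k : ℤ) + 1 := ⟨(a - 1).toNat, by omega⟩
  have e1 : ((k : ℤ) + 1).toNat = k + 1 := by omega
  have e2 : ((k : ℤ) + 1 - 1).toNat = k := by omega
  rw [e1, e2, Nat.factorial_succ]
  push_cast
  ring

theorem ratio_pred {L₁ : List ℤ} {a : ℤ} {L₂ : List ℤ} (h : Strict (L₁ ++ a :: L₂)) :
    ratio (L₁ ++ (a - 1) :: L₂) = ratio (L₁ ++ a :: L₂) * ((L₁ ++ L₂).map (phi a)).prod := by
  rw [ratio_append_cons, ratio_append_cons, List.map_append, List.prod_append]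
  have hp := List.pairwise_append.1 h.1
  have ha : 0 < a := h.2 a (by simp)
  have e1 : (L₁.map fun b => ((b - (a - 1) : ℤ) : ℚ) / ((b + (a - 1) : ℤ) : ℚ)).prod =
      (L₁.map fun b => ((b - a : ℤ) : ℚ) / ((b + a : ℤ) : ℚ)).prod * (L₁.map (phi a)).prod := by
    rw [← List.prod_map_mul]
    congr 1
    refine List.map_congr_left fun b hb => ?_
    have h1 : a < b := hp.2.2 b hb a List.mem_cons_self
    have h2 : ((b : ℚ) - a) ≠ 0 := by
      have : (a : ℚ) < b := by exact_mod_cast h1
      linarith
    have h2' : ((a : ℚ) - b) ≠ 0 := fun h => h2 (by linarith)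
    have h3 : ((b : ℚ) + a) ≠ 0 := by
      have : (0 : ℤ) < b + a := by omega
      exact_mod_cast this.ne'
    have h4 : ((a : ℚ) + b - 1) ≠ 0 := by
      have : (0 : ℤ) < a + b - 1 := by omega
      exact_mod_cast this.ne'
    have h4' : ((b : ℚ) + (a - 1)) ≠ 0 := fun h => h4 (by linarith)
    unfold phi
    push_cast
    field_simp
    ring
  have e2 : (L₂.map fun b => ((a - 1 - b : ℤ) : ℚ) / ((a - 1 + b : ℤ) : ℚ)).prod =
      (L₂.map fun b => ((a - b : ℤ) : ℚ) / ((a + b : ℤ) : ℚ)).prod * (L₂.map (phi a)).prod := by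
    rw [← List.prod_map_mul]
    congr 1
    refine List.map_congr_left fun b hb => ?_
    have h1 : b < a := (List.pairwise_cons.1 hp.2.1).1 b hb
    have hb0 : 0 < b := h.2 b (by simp [hb])
    have h2 : ((a : ℚ) - b) ≠ 0 := by
      have : (b : ℚ) < a := by exact_mod_cast h1
      linarith
    have h3 : ((a : ℚ) + b) ≠ 0 := by
      have : (0 : ℤ) < a + b := by omega
      exact_mod_cast this.ne'
    have h4 : ((a : ℚ) + b - 1) ≠ 0 := by
      have : (0 : ℤ) < a + b - 1 := by omega
      exact_mod_cast this.ne'
    have h4' : ((a : ℚ) - 1 + b) ≠ 0 := fun h => h4 (by linarith)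
    unfold phi
    push_cast
    field_simp
    ring
  rw [e1, e2]
  ring

theorem dl_split (r : ℤ) (g : List ℤ → ℤ) (G : ℤ → ℚ) (L : List ℤ)
    (h : ∀ L₁ a L₂, L = L₁ ++ a :: L₂ → ((g (L₁ ++ (a - r) :: L₂) : ℤ) : ℚ) = G a) :
    ((dl r g L : ℤ) : ℚ) = (L.map G).sum := by
  induction L generalizing g with
  | nil => simp
  | cons b L ih =>
    rw [dl_cons, List.map_cons, List.sum_cons]
    push_cast
    rw [ih (fun M => g (b :: M)) (fun L₁ a L₂ e => h (b :: L₁) a L₂ (by rw [e]; rfl))]
    congr 1
    exact h [] b L rfl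

theorem sum_phi {L : List ℤ} (hL : Strict L) :
    (L.map fun a : ℤ => (a : ℚ) * ((L.erase a).map (phi a)).prod).sum = (L.sum : ℤ) := by
  have hn := hL.nodup
  have e1 : ∀ a ∈ L, (a : ℚ) * ((L.erase a).map (phi a)).prod = (a : ℚ) * ∏ y ∈ L.toFinset.erase a, phi a y := by
    intro a _
    have e2 : (L.erase a).toFinset = L.toFinset.erase a := by
      ext x
      rw [List.mem_toFinset, hn.mem_erase_iff, Finset.mem_erase, List.mem_toFinset]
    rw [← e2, List.prod_toFinset _ (hn.erase a)]
  rw [List.map_congr_left e1, ← List.sum_toFinset _ hn, lagrange _ (fun x hx => hL.2 x (List.mem_toFinset.1 hx)),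
    List.sum_toFinset _ hn]
  have e3 : ∀ M : List ℤ, (M.map fun x : ℤ => (x : ℚ)).sum = ((M.sum : ℤ) : ℚ) := by
    intro M
    induction M with
    | nil => simp
    | cons c M ih => rw [List.map_cons, List.sum_cons, List.sum_cons, ih]; push_cast; ring
  exact e3 L

theorem odd_ones (n : ℕ) : ∀ i ∈ Multiset.replicate n 1, Odd i := by
  intro i hi
  rw [Multiset.eq_of_mem_replicate hi]
  exact odd_one

theorem X_ones (n : ℕ) {L : List ℤ} (hL : Strict L) (hsum : L.sum = n) :
    (X (Multiset.replicate n 1) L : ℚ) =
      n.factorial / (L.map fun a => ((a.toNat.factorial : ℕ) : ℚ)).prod * ratio L := by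
  change _ = n.factorial / fden L * ratio L
  induction n generalizing L with
  | zero =>
    have : L = [] := by
      cases L with
      | nil => rfl
      | cons a L =>
        exfalso
        rw [List.sum_cons] at hsum
        have h1 := hL.head_pos
        have h2 : 0 ≤ L.sum := List.sum_nonneg fun c hc => (hL.tail.2 c hc).le
        push_cast at hsum
        omega
    subst this
    simp [X_zero, V_nil, fden, ratio]
  | succ n ih =>
    rw [Multiset.replicate_succ, X_cons]
    have key : ∀ L₁ a L₂, L = L₁ ++ a :: L₂ →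
        ((X (Multiset.replicate n 1) (L₁ ++ (a - ((1 : ℕ) : ℤ)) :: L₂) : ℤ) : ℚ) =
          n.factorial / fden L * ratio L * ((a : ℚ) * ((L.erase a).map (phi a)).prod) := by
      rintro L₁ a L₂ rfl
      have ha : 0 < a := hL.2 a (by simp)
      have hp := List.pairwise_append.1 hL.1
      have hpc := List.pairwise_cons.1 hp.2.1
      have herase : (L₁ ++ a :: L₂).erase a = L₁ ++ L₂ := by
        rw [List.erase_append_right _ (fun hmem => absurd (hp.2.2 a hmem a List.mem_cons_self) (lt_irrefl a)),
          List.erase_cons_head]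
      rw [herase, Nat.cast_one]
      have e1 : (n.factorial : ℚ) / fden (L₁ ++ a :: L₂) * ratio (L₁ ++ a :: L₂) *
          ((a : ℚ) * ((L₁ ++ L₂).map (phi a)).prod) =
          n.factorial / fden (L₁ ++ (a - 1) :: L₂) * ratio (L₁ ++ (a - 1) :: L₂) := by
        rw [ratio_pred hL, fden_pred L₁ ha L₂]
        have h1 : (a : ℚ) ≠ 0 := by exact_mod_cast ha.ne'
        have h2 := fden_ne (L₁ ++ (a - 1) :: L₂)
        field_simp
      rw [e1]
      have hs : (L₁ ++ (a - 1) :: L₂).sum = n := by
        rw [List.sum_append, List.sum_cons] at hsum ⊢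
        push_cast at hsum
        omega
      -- the cases
      rcases L₂ with _ | ⟨b, L₃⟩
      · by_cases h1 : a = 1
        · subst h1
          have hs1 : Strict L₁ := ⟨hp.1, fun b hb => hL.2 b (by simp [hb])⟩
          rw [sub_self]
          rw [X_append_zero _ (fun i hi => (odd_ones n i hi).pos)]
          have hs' : L₁.sum = n := by simpa using hs
          rw [ih hs1 hs']
          have e3 : ratio (L₁ ++ [0]) = ratio L₁ := by
            rw [ratio_append_cons]
            have : (L₁.map fun b => ((b - 0 : ℤ) : ℚ) / ((b + 0 : ℤ) : ℚ)).prod = 1 := by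
              apply List.prod_eq_one
              intro x hx
              obtain ⟨b, hb, rfl⟩ := List.mem_map.1 hx
              have hb0 : (b : ℚ) ≠ 0 := by
                have := hs1.2 b hb
                exact_mod_cast this.ne'
              simp [hb0]
            rw [this]
            simp
          have e4 : fden (L₁ ++ [0]) = fden L₁ := by
            rw [fden_append_cons]; simp
          rw [e3, e4]
        · refine ih ⟨?_, ?_⟩ hs
          · rw [List.pairwise_append]
            refine ⟨hp.1, List.pairwise_singleton _ _, fun x hx y hy => ?_⟩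
            rw [List.mem_singleton] at hy
            have := hp.2.2 x hx a List.mem_cons_self
            omega
          · intro x hx
            rw [List.mem_append, List.mem_singleton] at hx
            rcases hx with hx | hx
            · exact hL.2 x (by simp [hx])
            · omega
      · have hba : b < a := hpc.1 b List.mem_cons_self
        have hb0 : 0 < b := hL.2 b (by simp)
        by_cases h1 : a - 1 = b
        · have h2 : X (Multiset.replicate n 1) (L₁ ++ (a - 1) :: b :: L₃) = 0 := by
            have := X_swap (odd_ones n) L₁ (a - 1) b L₃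
            rw [if_neg (by omega), h1] at this
            rw [h1]
            omega
          rw [h2, ratio_append_cons, List.map_cons, List.prod_cons, h1, sub_self]
          simp
        · refine ih ⟨?_, ?_⟩ hs
          · rw [List.pairwise_append]
            refine ⟨hp.1, ?_, fun x hx y hy => ?_⟩
            · rw [List.pairwise_cons]
              refine ⟨fun x hx => ?_, hpc.2⟩
              rw [List.mem_cons] at hx
              rcases hx with hx | hx
              · omega
              · have := (List.pairwise_cons.1 hpc.2).1 x hx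
                omega
            · rw [List.mem_cons] at hy
              rcases hy with hy | hy
              · have := hp.2.2 x hx a List.mem_cons_self
                omega
              · exact hp.2.2 x hx y (List.mem_cons_of_mem _ hy)
          · intro x hx
            rw [List.mem_append, List.mem_cons] at hx
            rcases hx with hx | hx | hx
            · exact hL.2 x (by simp [hx])
            · omega
            · exact hL.2 x (by rw [List.mem_append]; right; exact List.mem_cons_of_mem _ hx)
    rw [dl_split _ _ _ L key]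
    have e5 : (L.map fun a : ℤ => (n.factorial : ℚ) / fden L * ratio L * ((a : ℚ) * ((L.erase a).map (phi a)).prod)).sum =
        (n.factorial : ℚ) / fden L * ratio L * (L.map fun a : ℤ => (a : ℚ) * ((L.erase a).map (phi a)).prod).sum := by
      rw [← List.sum_map_mul_left]
    rw [e5, sum_phi hL, hsum, Nat.factorial_succ]
    push_cast
    ring

theorem ratio_pos {L : List ℤ} (hL : Strict L) : 0 < ratio L := by
  induction L with
  | nil => simp [ratio]
  | cons a L ih =>
    rw [ratio]
    refine mul_pos (List.prod_pos fun x hx => ?_) (ih hL.tail)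
    obtain ⟨b, hb, rfl⟩ := List.mem_map.1 hx
    have h1 := hL.head_gt hb
    have h2 := hL.tail.2 b hb
    refine div_pos ?_ ?_
    · exact_mod_cast (by omega : 0 < a - b)
    · exact_mod_cast (by omega : 0 < a + b)

theorem X_ones_pos (n : ℕ) {L : List ℤ} (hL : Strict L) (hsum : L.sum = n) :
    0 < X (Multiset.replicate n 1) L := by
  have h1 := X_ones n hL hsum
  have h2 : (0 : ℚ) < (X (Multiset.replicate n 1) L : ℚ) := by
    rw [h1]
    exact mul_pos (div_pos (Nat.cast_pos.2 (Nat.factorial_pos n)) (fden_pos L)) (ratio_pos hL)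
  exact_mod_cast h2

/-! ### The valuation -/

/-- `∏_{i < j} (a_i - a_j)` -/
def dm : List ℤ → ℤ
  | [] => 1
  | a :: L => (L.map fun b => a - b).prod * dm L

/-- `∏_{i < j} (a_i + a_j)` -/
def dp : List ℤ → ℤ
  | [] => 1
  | a :: L => (L.map fun b => a + b).prod * dp L

/-- `∏ a_i !` -/
def df : List ℤ → ℕ
  | [] => 1
  | a :: L => a.toNat.factorial * df L

theorem cast_df (L : List ℤ) : ((df L : ℕ) : ℚ) = fden L := by
  induction L with
  | nil => simp [df, fden]
  | cons a L ih =>
    rw [df, fden, List.map_cons, List.prod_cons]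
    push_cast
    rw [ih, fden]

theorem df_ne (L : List ℤ) : df L ≠ 0 := by
  have := fden_ne L
  rw [← cast_df] at this
  exact_mod_cast this

theorem dp_pos {L : List ℤ} (hL : Strict L) : 0 < dp L := by
  induction L with
  | nil => simp [dp]
  | cons a L ih =>
    rw [dp]
    refine mul_pos (List.prod_pos fun x hx => ?_) (ih hL.tail)
    obtain ⟨b, hb, rfl⟩ := List.mem_map.1 hx
    have h1 := hL.head_gt hb
    have h2 := hL.tail.2 b hb
    omega

theorem dm_pos {L : List ℤ} (hL : Strict L) : 0 < dm L := by
  induction L with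
  | nil => simp [dm]
  | cons a L ih =>
    rw [dm]
    refine mul_pos (List.prod_pos fun x hx => ?_) (ih hL.tail)
    obtain ⟨b, hb, rfl⟩ := List.mem_map.1 hx
    have h1 := hL.head_gt hb
    have h2 := hL.tail.2 b hb
    omega

theorem ratio_eq {L : List ℤ} (hL : Strict L) : ratio L = (dm L : ℚ) / (dp L : ℚ) := by
  induction L with
  | nil => simp [ratio, dm, dp]
  | cons a L ih =>
    rw [ratio, ih hL.tail, dm, dp]
    have e : ∀ M : List ℤ, (M.map fun b => ((a - b : ℤ) : ℚ) / ((a + b : ℤ) : ℚ)).prod =
        (((M.map fun b => a - b).prod : ℤ) : ℚ) / (((M.map fun b => a + b).prod : ℤ) : ℚ) := by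
      intro M
      induction M with
      | nil => simp
      | cons c M ihM =>
        rw [List.map_cons, List.prod_cons, ihM, List.map_cons, List.prod_cons, List.map_cons, List.prod_cons]
        push_cast
        rw [mul_div_mul_comm]
    rw [e]
    push_cast
    rw [mul_div_mul_comm]

theorem fact_prod {p : ℕ} (f : ℤ → ℤ) {M : List ℤ} (hM : ∀ b ∈ M, f b ≠ 0) :
    (((M.map f).prod.natAbs.factorization p : ℕ) : ℤ) =
      (M.map fun b => (((f b).natAbs.factorization p : ℕ) : ℤ)).sum := by
  induction M with
  | nil => simp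
  | cons c M ih =>
    have h1 : f c ≠ 0 := hM c List.mem_cons_self
    have h2 : (M.map f).prod ≠ 0 := by
      apply List.prod_ne_zero
      intro h
      obtain ⟨b, hb, hb'⟩ := List.mem_map.1 h
      exact hM b (List.mem_cons_of_mem _ hb) hb'
    rw [List.map_cons, List.prod_cons, Int.natAbs_mul, Nat.factorization_mul (Int.natAbs_ne_zero.2 h1)
      (Int.natAbs_ne_zero.2 h2), Finsupp.add_apply, List.map_cons, List.sum_cons,
      ← ih fun b hb => hM b (List.mem_cons_of_mem _ hb)]
    push_cast
    ring

theorem vw_eq_fact {p : ℕ} {L : List ℤ} (hL : Strict L) :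
    vw p L + ((dm L).natAbs.factorization p : ℕ) =
      (((df L).factorization p : ℕ) : ℤ) + ((dp L).natAbs.factorization p : ℕ) := by
  induction L with
  | nil => simp [vw, dm, dp, df]
  | cons a L ih =>
    have hm : ∀ b ∈ L, a - b ≠ 0 := fun b hb => by have := hL.head_gt hb; omega
    have hp : ∀ b ∈ L, a + b ≠ 0 := fun b hb => by
      have := hL.head_gt hb
      have := hL.tail.2 b hb
      omega
    have ihL := ih hL.tail
    have n1 : (L.map fun b => a - b).prod ≠ 0 := by
      apply List.prod_ne_zero
      intro h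
      obtain ⟨b, hb, hb'⟩ := List.mem_map.1 h
      exact hm b hb hb'
    have n2 : (L.map fun b => a + b).prod ≠ 0 := by
      apply List.prod_ne_zero
      intro h
      obtain ⟨b, hb, hb'⟩ := List.mem_map.1 h
      exact hp b hb hb'
    rw [vw, dm, dp, df, Int.natAbs_mul, Int.natAbs_mul,
      Nat.factorization_mul (Int.natAbs_ne_zero.2 n1) (Int.natAbs_ne_zero.2 (dm_pos hL.tail).ne'),
      Nat.factorization_mul (Int.natAbs_ne_zero.2 n2) (Int.natAbs_ne_zero.2 (dp_pos hL.tail).ne'),
      Nat.factorization_mul (Nat.factorial_ne_zero _) (df_ne L), Finsupp.add_apply, Finsupp.add_apply,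
      Finsupp.add_apply]
    push_cast
    rw [fact_prod _ hm, fact_prod _ hp]
    have e : ∀ (f g : ℤ → ℤ) (M : List ℤ), (M.map fun b => f b - g b).sum = (M.map f).sum - (M.map g).sum := by
      intro f g M
      induction M with
      | nil => simp
      | cons c M ih => rw [List.map_cons, List.sum_cons, ih, List.map_cons, List.map_cons, List.sum_cons, List.sum_cons]; ring
    rw [e (fun b => (((a + b).natAbs.factorization p : ℕ) : ℤ)) (fun b => (((a - b).natAbs.factorization p : ℕ) : ℤ))]
    linarith

theorem val_X_ones {p : ℕ} [Fact p.Prime] (_hp : p ≠ 2) (n : ℕ) {L : List ℤ} (hL : Strict L)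
    (hsum : L.sum = n) :
    ((X (Multiset.replicate n 1) L).natAbs.factorization p : ℤ) + wt p L ≤
      (n.factorial.factorization p : ℤ) := by
  have hX := X_ones_pos n hL hsum
  have h1 := X_ones n hL hsum
  change _ = n.factorial / fden L * ratio L at h1
  have hdp := dp_pos hL
  have hdm := dm_pos hL
  rw [ratio_eq hL, ← cast_df] at h1
  have hdp' : (dp L : ℚ) ≠ 0 := by exact_mod_cast hdp.ne'
  have hdf' : ((df L : ℕ) : ℚ) ≠ 0 := by exact_mod_cast df_ne L
  rw [div_mul_div_comm, eq_div_iff (mul_ne_zero hdf' hdp')] at h1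
  have h2 : X (Multiset.replicate n 1) L * ((df L : ℤ) * dp L) = (n.factorial : ℤ) * dm L := by exact_mod_cast h1
  have h3 := congrArg (fun x : ℤ => x.natAbs.factorization p) h2
  simp only [Int.natAbs_mul, Int.natAbs_natCast] at h3
  rw [Nat.factorization_mul (Int.natAbs_ne_zero.2 hX.ne')
      (mul_ne_zero (df_ne L) (Int.natAbs_ne_zero.2 hdp.ne')),
    Nat.factorization_mul (df_ne L) (Int.natAbs_ne_zero.2 hdp.ne'),
    Nat.factorization_mul (Nat.factorial_ne_zero n) (Int.natAbs_ne_zero.2 hdm.ne'),
    Finsupp.add_apply, Finsupp.add_apply, Finsupp.add_apply] at h3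
  have h4 := vw_eq_fact (p := p) hL
  have h5 := wt_le_vw (p := p) hL
  zify at h3
  linarith

end Cfsg.Agent.H614.Spin
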